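import Mathlib
import Groth.Agent.ASp.MonoLQF

/-!
Monomorphisms into disjoint unions of spectra of fields.
-/

set_option autoImplicit false
set_option linter.style.haveILetI false

universe u

open CategoryTheory Limits AlgebraicGeometry TopologicalSpace

namespace Groth.Agent.MonoDiscLib

theorem isOpenImmersion_to_field {K : Type u} [Field K] {Z : Scheme.{u}}
    (g : Z ⟶ Spec (CommRingCat.of K)) [Mono g] : IsOpenImmersion g := by
  rcases isEmpty_or_nonempty Z with hZ | hZ
  · infer_instance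
  haveI : LocallyQuasiFinite g := ASp.locallyQuasiFinite_of_mono' g
  have hinj : Function.Injective g := by
    haveI : UniversallyInjective g := inferInstance
    exact g.injective
  haveI : Subsingleton Z := ⟨fun a b => hinj (Subsingleton.elim _ _)⟩
  obtain ⟨U, hU, hzU, -⟩ := exists_isAffineOpen_mem_and_subset (x := hZ.some) (U := ⊤) trivial
  have hUt : U = ⊤ := eq_top_iff.2 fun z _ => (Subsingleton.elim z hZ.some) ▸ hzU
  haveI : IsAffine Z := by
    subst hUt
    haveI : IsAffine (⊤ : Z.Opens).toScheme := hU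
    exact IsAffine.of_isIso Z.topIso.inv
  haveI : QuasiCompact g := inferInstance
  haveI : IsFinite g := IsFinite.of_locallyQuasiFinite _
  obtain ⟨φ, hφ⟩ := Spec.map_surjective (Z.isoSpec.inv ≫ g)
  haveI : Mono (Spec.map φ) := hφ ▸ mono_comp _ _
  haveI : Epi φ := ⟨fun a b e => Spec.map_injective ((cancel_mono (Spec.map φ)).1 (by
    rw [← Spec.map_comp, ← Spec.map_comp, e]))⟩
  haveI : IsFinite (Spec.map φ) := hφ ▸ inferInstance
  have hs : Function.Surjective φ.hom := RingHom.surjective_of_epi_of_finite φ ((IsFinite.SpecMap_iff φ).1 ‹_›)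
  haveI : Nonempty (⊤ : Z.Opens) := ⟨⟨hZ.some, trivial⟩⟩
  haveI : Nontrivial Γ(Z, ⊤) := inferInstance
  haveI : IsIso φ := (ConcreteCategory.isIso_iff_bijective φ).2 ⟨φ.hom.injective, hs⟩
  haveI : IsIso (Spec.map φ) := inferInstance
  rw [show g = Z.isoSpec.hom ≫ Spec.map φ by rw [hφ, Iso.hom_inv_id_assoc]]
  infer_instance

theorem isOpenImmersion_to_sigma {ι : Type u} (k : ι → Type u) [∀ i, Field (k i)]
    {Y : Scheme.{u}} (f : Y ⟶ ∐ fun i => Spec (CommRingCat.of (k i))) [Mono f] : IsOpenImmersion f := by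
  rw [IsZariskiLocalAtTarget.iff_of_openCover (P := @IsOpenImmersion)
    (sigmaOpenCover fun i => Spec (CommRingCat.of (k i)))]
  intro (i : ι)
  haveI : Mono ((sigmaOpenCover fun i => Spec (CommRingCat.of (k i))).pullbackHom f i) :=
    by delta Scheme.Cover.pullbackHom; exact pullback.snd_of_mono
  exact @isOpenImmersion_to_field (k i) _ _ _ this

theorem exists_iso_sigma {ι : Type u} (k : ι → Type u) [∀ i, Field (k i)]
    {Y : Scheme.{u}} (f : Y ⟶ ∐ fun i => Spec (CommRingCat.of (k i))) [Mono f] :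
    ∃ (J : Set ι) (e : Y ≅ ∐ fun j : J => Spec (CommRingCat.of (k j.1))),
      e.hom ≫ Sigma.desc (fun j : J => Sigma.ι (fun i => Spec (CommRingCat.of (k i))) j.1) = f := by
  haveI := isOpenImmersion_to_sigma k f
  let T := fun i => Spec (CommRingCat.of (k i))
  let J : Set ι := {i | ∃ x, Sigma.ι T i x ∈ Set.range f}
  let d := Sigma.desc (fun j : J => Sigma.ι T j.1)
  haveI : IsOpenImmersion d := by
    refine isOpenImmersion_sigmaDesc _ _ fun a b hab => ?_
    exact (Set.disjoint_iff.2 fun z hz => by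
      obtain ⟨⟨x, hx⟩, y, hy⟩ := hz
      exact hab (Subtype.ext (congrArg Sigma.fst ((sigmaι_eq_iff T a.1 b.1 x y).mp (hx.trans hy.symm)))))
  have hr : Set.range f = Set.range d := by
    ext z
    constructor
    · intro hz
      obtain ⟨i, x, rfl⟩ := (sigmaOpenCover T).covers z |> fun h => (⟨_, h⟩ : ∃ i, z ∈ Set.range (Sigma.ι T i))
      exact ⟨Sigma.ι (fun j : J => T j.1) ⟨i, x, hz⟩ x, by
        rw [← Scheme.Hom.comp_apply, Sigma.ι_desc]⟩
    · rintro ⟨w, rfl⟩
      obtain ⟨j, x, rfl⟩ := (sigmaOpenCover fun j : J => T j.1).covers w |> fun h =>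
        (⟨_, h⟩ : ∃ j, w ∈ Set.range (Sigma.ι (fun j : J => T j.1) j))
      obtain ⟨x', hx'⟩ := j.2
      rw [← Scheme.Hom.comp_apply, Sigma.ι_desc, Subsingleton.elim x x']
      exact hx'
  exact ⟨J, IsOpenImmersion.isoOfRangeEq f d hr, IsOpenImmersion.isoOfRangeEq_hom_fac _ _ _⟩

end Groth.Agent.MonoDiscLib
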